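import Cfsg.Agent.J2Order38.Order
import Cfsg.Agent.Fus93.RankTwoOdd.Abstract

/-!
The 2-fusion system of a group of Hall–Janko type is simple.
-/

set_option autoImplicit false
set_option maxHeartbeats 1000000

namespace Cfsg.Agent.J2Fusion14

open Cfsg Cfsg.Agent.J2Order38

variable {G : Type*} [Group G] [Finite G] {z : G} {Q : Subgroup G}

/-- The centre of a 2-group containing `Q` is inside `⟨z⟩`. -/
theorem central_eq (h : HJ z Q) {S : Subgroup G} (hQS : Q ≤ S) {x : G}
    (hx : ∀ s ∈ S, s * x = x * s) (hx1 : x ≠ 1) : x = z := by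
  have hm : x ∈ Subgroup.centralizer (Q : Set G) :=
    Subgroup.mem_centralizer_iff.2 fun q hq => hx q (hQS hq)
  rw [h.setup.centralizer_eq] at hm
  exact (h.cases_z hm).resolve_left hx1

/-- A Sylow 2-subgroup containing `Q` centralises `z`. -/
theorem le_centralizer_z (h : HJ z Q) (S : Sylow 2 G) (hQS : Q ≤ (S : Subgroup G)) :
    (S : Subgroup G) ≤ Subgroup.centralizer ({z} : Set G) := by
  haveI : Fact (Nat.Prime 2) := ⟨Nat.prime_two⟩
  have hS : IsPGroup 2 (S : Subgroup G) := S.isPGroup'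
  haveI : Nontrivial (S : Subgroup G) :=
    ⟨⟨⟨z, hQS h.z_mem⟩, 1, fun e => h.z_ne (congrArg Subtype.val e)⟩⟩
  haveI := hS.center_nontrivial
  obtain ⟨c, hc⟩ := exists_ne (1 : Subgroup.center (S : Subgroup G))
  have hcomm : ∀ s ∈ (S : Subgroup G), s * (c.1.1) = c.1.1 * s := fun s hs =>
    congrArg Subtype.val (Subgroup.mem_center_iff.1 c.2 ⟨s, hs⟩)
  have hcz : c.1.1 = z := central_eq h hQS hcomm fun e => hc (Subtype.ext (Subtype.ext e))
  intro s hs
  rw [Subgroup.mem_centralizer_singleton_iff, ← hcz]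
  exact hcomm s hs

/-- A strongly closed nontrivial subgroup of `S` contains `Q`. -/
theorem le_closed (h : HJ z Q) {S T : Subgroup G} (hQS : Q ≤ S) (hp : IsPGroup 2 S) (hTS : T ≤ S)
    (hT : T ≠ ⊥) (hcl : ∀ x ∈ T, ∀ a : G, a * x * a⁻¹ ∈ S → a * x * a⁻¹ ∈ T) : Q ≤ T := by
  classical
  haveI : Fact (Nat.Prime 2) := ⟨Nat.prime_two⟩
  obtain ⟨x, hxT, hx1, -, hxc⟩ := Fus93.RankTwoOdd.exists_involution hp hTS hT hcl
  have hzT : z ∈ T := central_eq h hQS hxc hx1 ▸ hxT
  have hiT : ∀ v ∈ invs z Q, v ∈ T := by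
    intro v hv
    obtain ⟨a, ha⟩ := isConj_iff.1 (h.isConj_invs hv)
    rw [← ha]
    exact hcl z hzT a (by rw [ha]; exact hQS hv.1)
  let W : Subgroup G := Subgroup.closure ({z} ∪ invs z Q)
  have hWT : W ≤ T := (Subgroup.closure_le _).2 (by
    rintro v (rfl | hv)
    · exact hzT
    · exact hiT v hv)
  have hWQ : W ≤ Q := (Subgroup.closure_le _).2 (by
    rintro v (rfl | hv)
    · exact h.z_mem
    · exact hv.1)
  have hzW : z ∈ W := Subgroup.subset_closure (Or.inl rfl)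
  have hWinv : ∀ c, Commute z c → ∀ x ∈ W, c * x * c⁻¹ ∈ W := by
    intro c hc x hx
    have : W ≤ W.comap (MulAut.conj c).toMonoidHom := (Subgroup.closure_le _).2 (by
      rintro v (rfl | hv)
      · show c * v * c⁻¹ ∈ W
        rw [← hc.eq, mul_inv_cancel_right]; exact hzW
      · show c * v * c⁻¹ ∈ W
        refine Subgroup.subset_closure (Or.inr ⟨h.normal_in hc hv.1, ?_, ?_, ?_⟩)
        · rw [show c * v * c⁻¹ * (c * v * c⁻¹) = c * (v * v) * c⁻¹ by group, hv.2.1, mul_one,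
            mul_inv_cancel]
        · exact fun e => hv.2.2.1 (conj_eq_one_iff.mp e)
        · intro e
          refine hv.2.2.2 ?_
          calc v = c⁻¹ * (c * v * c⁻¹) * c := by group
            _ = z := by rw [e, mul_assoc, hc.eq]; group)
    exact this hx
  have hzW' : Subgroup.zpowers z ≤ W := Subgroup.zpowers_le.2 hzW
  have h5 : 5 ∣ Nat.card ↥((W : Set G) \ (Subgroup.zpowers z : Set G)) := by
    refine h.five_dvd (fun x hx => hWQ hx.1) (fun x hx => hx.2) ?_
    rintro c hc x ⟨hx, hx'⟩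
    refine ⟨hWinv c hc x hx, fun hcx => hx' ?_⟩
    rcases h.cases_z hcx with e | e
    · rw [conj_eq_one_iff.mp e]; exact one_mem _
    · have : x = z := by
        calc x = c⁻¹ * (c * x * c⁻¹) * c := by group
          _ = z := by rw [e, mul_assoc, hc.eq]; group
      rw [this]; exact Subgroup.mem_zpowers z
  have hcard : Nat.card ↥((W : Set G) \ (Subgroup.zpowers z : Set G)) = Nat.card W - 2 := by
    rw [Nat.card_coe_set_eq, Set.ncard_sdiff hzW' (Set.toFinite _), ← Nat.card_coe_set_eq,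
      ← Nat.card_coe_set_eq]
    show Nat.card W - Nat.card (Subgroup.zpowers z) = _
    rw [h.zpowers_card]
  rw [hcard] at h5
  have hge : 10 + 2 ≤ Nat.card W := by
    have hsub : invs z Q ⊆ (W : Set G) \ (Subgroup.zpowers z : Set G) := fun v hv =>
      ⟨Subgroup.subset_closure (Or.inr hv), fun hvz => by
        rcases h.cases_z hvz with e | e
        · exact hv.2.2.1 e
        · exact hv.2.2.2 e⟩
    have := Nat.card_mono (Set.toFinite _) hsub
    rw [hcard, h.card_invs] at this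
    omega
  have hdvd : Nat.card W ∣ 2 ^ 5 := by
    rw [show (2 : ℕ) ^ 5 = 32 from rfl, ← h.card]; exact Subgroup.card_dvd_of_le hWQ
  obtain ⟨k, hk, hWk⟩ := (Nat.dvd_prime_pow Nat.prime_two).mp hdvd
  have hW32 : Nat.card W = 32 := by
    rw [hWk] at h5 hge ⊢
    interval_cases k <;> omega
  have : W = Q := Subgroup.eq_of_le_of_card_ge hWQ (by rw [hW32, h.card])
  exact this ▸ hWT

/-- A Sylow 2-subgroup containing `Q` has no proper strongly closed subgroup. -/
theorem noClosed (h : HJ z Q) (S : Sylow 2 G) (hQS : Q ≤ (S : Subgroup G)) :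
    Fusion91.NoClosed (S : Subgroup G) := by
  classical
  haveI : Fact (Nat.Prime 2) := ⟨Nat.prime_two⟩
  intro T hTS hT hcl
  have hQT : Q ≤ T := le_closed h hQS S.isPGroup' hTS hT hcl
  have hSC := le_centralizer_z h S hQS
  set C := Subgroup.centralizer ({z} : Set G) with hCdef
  have hmemC : ∀ x : G, x ∈ C ↔ Commute z x := fun x => by
    rw [hCdef, Subgroup.mem_centralizer_singleton_iff]; exact ⟨fun e => e.symm, fun e => e.symm⟩
  obtain ⟨π, hπs, hπ⟩ := h.quot
  let SC : Sylow 2 C := S.subtype hSC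
  have hmemS : ∀ x : C, x ∈ SC ↔ (x : G) ∈ (S : Subgroup G) := fun x => Iff.rfl
  -- an element of `T` outside `Q`
  obtain ⟨u, huQ, hune, huc⟩ := h.nwc
  have hu := h.mem_invs_of_conj huQ hune huc
  obtain ⟨g, hg⟩ := isConj_iff.1 huc
  have hJ := h.conj g
  rw [hg] at hJ
  set Qu := Q.map (MulAut.conj g).toMonoidHom with hQu
  have hzu : z ∈ invs u Qu :=
    ⟨h.symm_mem hu hJ, h.z_sq, h.z_ne, fun e => hune e.symm⟩
  have hM16 := hJ.card_cent_Q hzu
  obtain ⟨w, hwM, hwQ⟩ : ∃ w ∈ Qu ⊓ Subgroup.centralizer ({z} : Set G), w ∉ Q := by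
    by_contra hcon
    push Not at hcon
    have hsub : ((Qu ⊓ Subgroup.centralizer ({z} : Set G) : Subgroup G) : Set G) ⊆
        ({1, z, u, z * u} : Set G) := by
      intro x hx
      rcases h.inter hu hJ (hcon x hx) (Subgroup.mem_inf.1 hx).1 with e | e | e | e <;> simp [e]
    have h1 := Nat.card_mono (Set.toFinite _) hsub
    have h4 : Nat.card ({1, z, u, z * u} : Set G) ≤ 4 := by
      rw [Nat.card_coe_set_eq]
      exact (Set.ncard_insert_le _ _).trans (Nat.succ_le_succ ((Set.ncard_insert_le _ _).trans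
        (Nat.succ_le_succ ((Set.ncard_insert_le _ _).trans (by rw [Set.ncard_singleton])))))
    have : Nat.card ((Qu ⊓ Subgroup.centralizer ({z} : Set G) : Subgroup G) : Set G) = 16 := hM16
    omega
  obtain ⟨hwQu, hwC⟩ := Subgroup.mem_inf.1 hwM
  obtain ⟨q, hq, hqw⟩ := Subgroup.mem_map.1 hwQu
  change g * q * g⁻¹ = w at hqw
  have hwp : IsPGroup 2 (Subgroup.zpowers (⟨w, hwC⟩ : C)) := by
    obtain ⟨k, hk⟩ := hJ.two_group ⟨w, hwQu⟩
    have hk' : w ^ 2 ^ k = 1 := by simpa using congrArg Subtype.val hk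
    obtain ⟨j, -, hj⟩ := (Nat.dvd_prime_pow Nat.prime_two).1 (orderOf_dvd_of_pow_eq_one hk')
    refine IsPGroup.of_card (n := j) ?_
    rw [Nat.card_zpowers, ← Subgroup.orderOf_coe]
    exact hj
  obtain ⟨P, hP⟩ := hwp.exists_le_sylow
  obtain ⟨c, hc⟩ := MulAction.exists_smul_eq C P SC
  have hw'S : (c : G) * w * (c : G)⁻¹ ∈ (S : Subgroup G) := by
    have : c * ⟨w, hwC⟩ * c⁻¹ ∈ (SC : Subgroup C) := by
      rw [← hc, Sylow.coe_subgroup_smul]
      exact Subgroup.smul_mem_pointwise_smul _ (MulAut.conj c) _ (hP (Subgroup.mem_zpowers _))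
    exact this
  set w' : G := (c : G) * w * (c : G)⁻¹ with hw'
  have hw'T : w' ∈ T := by
    have e : w' = ((c : G) * g) * q * ((c : G) * g)⁻¹ := by
      rw [hw', ← hqw]; group
    rw [e]
    exact hcl q (hQT hq) _ (e ▸ hw'S)
  have hw'Q : w' ∉ Q := fun hm => hwQ (by
    have := h.normal_in ((hmemC _).1 c.2).inv_right hm
    rw [hw'] at this
    simpa [mul_assoc] using this)
  -- the image of `S`
  let V : Sylow 2 (alternatingGroup (Fin 5)) := SC.mapSurjective hπs
  have hVmem : ∀ y : C, (y : G) ∈ (S : Subgroup G) → π y ∈ (V : Subgroup (alternatingGroup (Fin 5))) := fun y hy =>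
    Subgroup.mem_map.2 ⟨y, hy, rfl⟩
  have hback : ∀ y : C, π y ∈ (V : Subgroup (alternatingGroup (Fin 5))) → (y : G) ∈ (S : Subgroup G) := by
    intro y hy
    obtain ⟨s, hs, e⟩ := Subgroup.mem_map.1 hy
    have hQm : ((s⁻¹ * y : C) : G) ∈ Q := (hπ _).1 (by rw [map_mul, map_inv, e, inv_mul_cancel])
    have := mul_mem (show (s : G) ∈ (S : Subgroup G) from hs) (hQS hQm)
    simpa using this
  have hVc : ∀ a ∈ (V : Subgroup (alternatingGroup (Fin 5))), ∀ b ∈ (V : Subgroup (alternatingGroup (Fin 5))), a * b = b * a := by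
    intro a ha b hb
    obtain ⟨x, hx, rfl⟩ := Subgroup.mem_map.1 ha
    obtain ⟨y, hy, rfl⟩ := Subgroup.mem_map.1 hb
    have h1 := h.comm_mem S.isPGroup' (fun s hs => (hmemC s).1 (hSC hs)) (a := (x : G))
      (b := (y : G)) hx hy
    have h2 : π (x * y * x⁻¹ * y⁻¹) = 1 := (hπ _).2 (by simpa using h1)
    simp only [map_mul, map_inv] at h2
    exact mul_inv_eq_iff_eq_mul.mp (mul_inv_eq_one.mp h2)
  haveI : IsMulCommutative (V : Subgroup (alternatingGroup (Fin 5))) :=
    ⟨⟨fun a b => Subtype.ext (hVc a a.2 b b.2)⟩⟩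
  have hsq : ∀ a ∈ (V : Subgroup (alternatingGroup (Fin 5))), a * a = 1 := by
    have hV4 : Nat.card (V : Subgroup (alternatingGroup (Fin 5))) = 4 := by
      rw [V.card_eq_multiplicity, A5.card_eq, show (60 : ℕ) = 2 ^ 2 * 15 from rfl,
        Nat.factorization_mul (by norm_num) (by norm_num), Nat.Prime.factorization_pow Nat.prime_two]
      simp [Nat.factorization_eq_zero_of_not_dvd (show ¬ 2 ∣ 15 by norm_num)]
    intro a ha
    by_cases ha1 : a = 1
    · rw [ha1, mul_one]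
    obtain ⟨b, hb⟩ := exists_prime_orderOf_dvd_card' (G := (V : Subgroup (alternatingGroup (Fin 5)))) 2 (by rw [hV4]; norm_num)
    have hb' : orderOf (b : alternatingGroup (Fin 5)) = 2 := by rw [Subgroup.orderOf_coe, hb]
    refine A5.cent_sq (a := (b : alternatingGroup (Fin 5))) ?_ ?_ (hVc a ha b b.2)
    · have := pow_orderOf_eq_one (b : alternatingGroup (Fin 5)); rw [hb', pow_two] at this; exact this
    · intro e; rw [e, orderOf_one] at hb'; omega
  -- conclusion
  refine le_antisymm hTS fun x hx => ?_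
  by_cases hxQ : x ∈ Q
  · exact hQT hxQ
  let xc : C := ⟨x, hSC hx⟩
  let wc : C := ⟨w', hSC hw'S⟩
  have hne : ∀ y : C, (y : G) ∉ Q → π y ≠ 1 := fun y hy e => hy ((hπ y).1 e)
  have ha := hVmem xc hx
  have hb := hVmem wc hw'S
  obtain ⟨d1, hd1⟩ := A5.exists_conj (π xc) (hsq _ ha) (hne xc hxQ)
  obtain ⟨d2, hd2⟩ := A5.exists_conj (π wc) (hsq _ hb) (hne wc hw'Q)
  have hconj : (d2 * d1⁻¹)⁻¹ * π wc * (d2 * d1⁻¹) = π xc := by
    rw [← hd1, ← hd2]; group
  obtain ⟨n, hn, hnx⟩ := V.conj_eq_normalizer_conj_of_mem (π wc) (d2 * d1⁻¹) hb (by rw [hconj]; exact ha)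
  rw [hconj] at hnx
  obtain ⟨m, hm⟩ := hπs n
  have hm' : π (m⁻¹ * wc * m) = π xc := by rw [map_mul, map_mul, map_inv, hm, hnx]
  have hmS : ((m⁻¹ * wc * m : C) : G) ∈ (S : Subgroup G) := hback _ (by rw [hm']; exact ha)
  have hmT : ((m⁻¹ * wc * m : C) : G) ∈ T := by
    have e : ((m⁻¹ * wc * m : C) : G) = (m : G)⁻¹ * w' * ((m : G)⁻¹)⁻¹ := by simp [wc]
    rw [e] at hmS ⊢
    exact hcl w' hw'T _ hmS
  have hQd : (((m⁻¹ * wc * m)⁻¹ * xc : C) : G) ∈ Q :=
    (hπ _).1 (by rw [map_mul, map_inv, hm', inv_mul_cancel])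
  have := mul_mem hmT (hQT hQd)
  rw [← Subgroup.coe_mul, mul_inv_cancel_left] at this
  exact this

/-- The normaliser of a Sylow 2-subgroup is generated inside the normaliser of `Q`. -/
theorem normalizer_le_genSub (h : HJ z Q) (S : Sylow 2 G) (hQS : Q ≤ (S : Subgroup G)) :
    Subgroup.normalizer ((S : Subgroup G) : Set G) ≤ Fusion91.genSub 2 (S : Subgroup G) := by
  haveI : Fact (Nat.Prime 2) := ⟨Nat.prime_two⟩
  have hSC := le_centralizer_z h S hQS
  set C := Subgroup.centralizer ({z} : Set G) with hCdef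
  have hmemC : ∀ x : G, x ∈ C ↔ Commute z x := fun x => by
    rw [hCdef, Subgroup.mem_centralizer_singleton_iff]; exact ⟨fun e => e.symm, fun e => e.symm⟩
  obtain ⟨π, hπs, hπ⟩ := h.quot
  let K : Subgroup C := Subgroup.closure {y : C | ∃ k : ℕ, orderOf y = 2 ^ k}
  haveI hKn : K.Normal := ⟨fun a ha b => by
    have : K ≤ K.comap (MulAut.conj b).toMonoidHom := (Subgroup.closure_le _).2 fun y ⟨k, hk⟩ =>
      Subgroup.subset_closure ⟨k, by
        show orderOf (MulAut.conj b y) = 2 ^ k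
        rw [MulEquiv.orderOf_eq, hk]⟩
    exact this ha⟩
  have hker : ∀ y : C, π y = 1 → y ∈ K := by
    intro y hy
    refine Subgroup.subset_closure ?_
    obtain ⟨k, hk⟩ := IsPGroup.iff_orderOf.1 h.two_group ⟨(y : G), (hπ y).1 hy⟩
    refine ⟨k, ?_⟩
    rw [← Subgroup.orderOf_coe]
    rw [← Subgroup.orderOf_coe] at hk
    exact hk
  have hKtop : K = ⊤ := by
    haveI : IsSimpleGroup (alternatingGroup (Fin 5)) := alternatingGroup.isSimpleGroup_five
    haveI : (K.map π).Normal := hKn.map π hπs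
    rcases Subgroup.Normal.eq_bot_or_eq_top (H := K.map π) inferInstance with hb | hb
    · exfalso
      obtain ⟨a, ha⟩ := exists_prime_orderOf_dvd_card' (G := C) 2
        (by rw [hCdef, h.card_H]; norm_num)
      obtain ⟨d, hd⟩ := hπs A5.a0
      have hall : ∀ y : C, (∃ k : ℕ, orderOf y = 2 ^ k) → π y = 1 := fun y hy =>
        Subgroup.mem_bot.1 (hb ▸ Subgroup.mem_map_of_mem π (Subgroup.subset_closure hy))
      obtain ⟨k, m, hm, hkm⟩ := Nat.exists_eq_pow_mul_and_not_dvd (orderOf_pos d).ne' 2 (by norm_num)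
      have hodd : π d ^ m = A5.a0 := by
        rw [hd]
        have hm2 : m % 2 = 1 := by omega
        conv_lhs => rw [← Nat.mod_add_div m 2, hm2, pow_add, pow_one, pow_mul, pow_two, A5.a0_sq,
          one_pow, mul_one]
      refine A5.a0_ne (hodd ▸ ?_)
      rw [← map_pow]
      refine hall _ ⟨k, ?_⟩
      have hm0 : m ≠ 0 := by rintro rfl; exact hm (dvd_zero 2)
      rw [orderOf_pow_of_dvd hm0 ⟨2 ^ k, by rw [hkm]; ring⟩, hkm,
        Nat.mul_div_cancel _ (Nat.pos_of_ne_zero hm0)]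
    · rw [eq_top_iff]
      intro y _
      obtain ⟨a, ha, e⟩ := Subgroup.mem_map.1 (hb.symm ▸ Subgroup.mem_top (π y) : π y ∈ K.map π)
      have := mul_mem ha (hker (a⁻¹ * y) (by rw [map_mul, map_inv, e, inv_mul_cancel]))
      rwa [mul_inv_cancel_left] at this
  intro n hn
  have hnC : n ∈ C := by
    rw [hmemC]
    have hz : n * z * n⁻¹ = z := by
      refine central_eq h hQS (fun s hs => ?_) (fun e => h.z_ne (conj_eq_one_iff.mp e))
      have hs' : n⁻¹ * s * n ∈ (S : Subgroup G) := (Subgroup.mem_normalizer_iff''.mp hn s).1 hs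
      have := ((hmemC _).1 (hSC hs')).eq
      calc s * (n * z * n⁻¹) = n * ((n⁻¹ * s * n) * z) * n⁻¹ := by group
        _ = n * (z * (n⁻¹ * s * n)) * n⁻¹ := by rw [this]
        _ = _ := by group
    exact (mul_inv_eq_iff_eq_mul.mp hz).symm
  refine Subgroup.mem_sup_right (Subgroup.mem_iSup_of_mem Q
    (Subgroup.mem_iSup_of_mem ⟨hQS, hSC.trans h.setup.centralizer_le, ?_⟩ ⟨hn, ?_⟩))
  · have : (⟨n, hnC⟩ : C) ∈ K := hKtop ▸ Subgroup.mem_top _
    have hmap : K.map C.subtype ≤ Subgroup.closure {g : G | g ∈ Subgroup.normalizer (Q : Set G) ∧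
        ∃ k : ℕ, orderOf g = 2 ^ k} := by
      rw [MonoidHom.map_closure, Subgroup.closure_le]
      rintro _ ⟨y, ⟨k, hk⟩, rfl⟩
      exact Subgroup.subset_closure ⟨h.setup.centralizer_le y.2, k, by
        rw [Subgroup.coe_subtype, Subgroup.orderOf_coe, hk]⟩
    exact hmap ⟨_, this, rfl⟩
  · intro x hx
    have := (Subgroup.mem_inf.1 hx).2
    rw [h.setup.centralizer_eq] at this
    exact Subgroup.zpowers_le.2 h.z_mem this

/-- The 2-fusion system of a group of Hall–Janko type is simple. -/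
theorem isSimple (h : HJ z Q) (S : Sylow 2 G) :
    (Cfsg.groupFusionSystem (S : Subgroup G)).IsSimple 2 := by
  haveI : Fact (Nat.Prime 2) := ⟨Nat.prime_two⟩
  obtain ⟨P, hP⟩ := h.two_group.exists_le_sylow
  obtain ⟨c, hc⟩ := MulAction.exists_smul_eq G P S
  have hJ := h.conj c
  have hQS : Q.map (MulAut.conj c).toMonoidHom ≤ (S : Subgroup G) := by
    rw [← hc, Sylow.coe_subgroup_smul]
    exact Subgroup.map_mono hP
  refine Fusion91.groupFusion_simple_gen 2 S ?_ (noClosed hJ S hQS) (normalizer_le_genSub hJ S hQS)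
  intro hb
  rw [hb] at hQS
  exact hJ.z_ne (Subgroup.mem_bot.1 (hQS hJ.z_mem))

end Cfsg.Agent.J2Fusion14
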