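import Cfsg.Agent.J2Fusion14.Abstract
import Cfsg.Agent.Lib.LargeExtraspecial.Pullback

/-!
Hall–Janko type from the shape of the centralizer of an involution, and transport along an
isomorphism.
-/

set_option autoImplicit false

namespace Cfsg.Agent.J2Fusion14

open Cfsg Cfsg.Agent.J2Order38

variable {G H : Type*} [Group G] [Group H]

/-- Transport of the Hall–Janko hypothesis along an isomorphism. -/
theorem hj_map (e : G ≃* H) {z : G} {Q : Subgroup G} (h : HJ z Q) :
    HJ (e z) (Q.map e.toMonoidHom) := by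
  obtain ⟨π, hπs, hπ⟩ := h.quot
  have hcz : ∀ x : H, x ∈ Subgroup.centralizer ({e z} : Set H) ↔
      e.symm x ∈ Subgroup.centralizer ({z} : Set G) := fun x => by
    rw [Subgroup.mem_centralizer_singleton_iff, Subgroup.mem_centralizer_singleton_iff]
    constructor
    · intro hx; apply e.injective; simp [hx]
    · intro hx
      have := congrArg e hx
      simpa using this
  have hcQ : ∀ x : H, x ∈ Subgroup.centralizer ((Q.map e.toMonoidHom : Subgroup H) : Set H) ↔
      e.symm x ∈ Subgroup.centralizer (Q : Set G) := fun x => by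
    rw [Subgroup.mem_centralizer_iff, Subgroup.mem_centralizer_iff]
    constructor
    · intro hx y hy
      apply e.injective
      simpa using hx (e y) ⟨y, hy, rfl⟩
    · rintro hx _ ⟨y, hy, rfl⟩
      have := congrArg e (hx y hy)
      simpa using this
  let φ : Subgroup.centralizer ({e z} : Set H) →* Subgroup.centralizer ({z} : Set G) :=
    MonoidHom.mk' (fun x => ⟨e.symm x, (hcz x).1 x.2⟩) (fun a b => Subtype.ext (map_mul e.symm _ _))
  refine ⟨⟨LargeExtraspecial.isExtraspecial_equiv (Q.equivMapOfInjective _ e.injective) h.setup.extraspecial,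
      ?_, ?_, ?_⟩, ?_, ⟨π.comp φ, ?_, fun x => ?_⟩, ?_⟩
  · have hc := h.setup.center_eq
    apply le_antisymm
    · rintro _ ⟨⟨_, x, hx, rfl⟩, hxc, rfl⟩
      have : x ∈ Subgroup.zpowers z := by
        rw [← hc]
        refine ⟨⟨x, hx⟩, Subgroup.mem_center_iff.2 fun y => Subtype.ext (e.injective ?_), rfl⟩
        have h2 := Subgroup.mem_center_iff.1 hxc ⟨e y, y, y.2, rfl⟩
        exact (map_mul e _ _).trans ((congrArg Subtype.val h2 : _).trans (map_mul e _ _).symm)
      rcases h.cases_z this with rfl | rfl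
      · show e 1 ∈ _; rw [map_one]; exact one_mem _
      · exact Subgroup.mem_zpowers _
    · rw [Subgroup.zpowers_le]
      refine ⟨⟨e z, z, h.z_mem, rfl⟩, Subgroup.mem_center_iff.2 ?_, rfl⟩
      rintro ⟨_, y, hy, rfl⟩
      refine Subtype.ext ?_
      show e y * e z = e z * e y
      rw [← map_mul, ← map_mul, (h.z_comm hy).eq]
  · ext x
    rw [hcQ, h.setup.centralizer_eq, Subgroup.mem_zpowers_iff, Subgroup.mem_zpowers_iff]
    refine exists_congr fun k => ?_
    rw [← map_zpow, MulEquiv.eq_symm_apply]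
  · intro x hx
    have hn := h.setup.centralizer_le ((hcz x).1 hx)
    rw [Subgroup.mem_normalizer_iff] at hn ⊢
    intro y
    rw [Subgroup.mem_map_equiv, Subgroup.mem_map_equiv, map_mul, map_mul, map_inv]
    exact hn _
  · rw [Subgroup.card_map_of_injective e.injective, h.card]
  · intro a
    obtain ⟨y, rfl⟩ := hπs a
    exact ⟨⟨e y, (hcz _).2 (by rw [MulEquiv.symm_apply_apply]; exact y.2)⟩,
      congrArg π (Subtype.ext (e.symm_apply_apply _))⟩
  · rw [MonoidHom.comp_apply, hπ, Subgroup.mem_map_equiv]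
    rfl
  · obtain ⟨u, hu, hne, hc⟩ := h.nwc
    exact ⟨e u, ⟨u, hu, rfl⟩, fun he => hne (e.injective he), MonoidHom.map_isConj e.toMonoidHom hc⟩

/-- The hypothesis from the shape of a centralizer. -/
theorem hj_of_shape [Finite G] {z : G} (hz : orderOf z = 2)
    (Q : Subgroup (Subgroup.centralizer ({z} : Set G))) [Q.Normal] (hcard : Nat.card Q = 32)
    (hQ : Cfsg.IsExtraspecial 2 Q)
    (e : Subgroup.centralizer ({z} : Set G) ⧸ Q ≃* alternatingGroup (Fin 5))
    (hmove : ∃ c : Subgroup.centralizer ({z} : Set G), ∃ q ∈ Q,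
      (c : G) * q * (c : G)⁻¹ * (q : G)⁻¹ ∉ Subgroup.zpowers z)
    (hnwc : ∃ u : Subgroup.centralizer ({z} : Set G), u ∈ Q ∧ (u : G) ≠ z ∧ IsConj z (u : G)) :
    HJ z (Q.map (Subgroup.centralizer ({z} : Set G)).subtype) := by
  classical
  haveI : Fact (Nat.Prime 2) := ⟨Nat.prime_two⟩
  let zc : (Subgroup.centralizer ({z} : Set G)) := ⟨z, Subgroup.mem_centralizer_singleton_iff.2 rfl⟩
  have hzcc : ∀ c : (Subgroup.centralizer ({z} : Set G)), zc * c = c * zc := fun c =>
    Subtype.ext (Subgroup.mem_centralizer_singleton_iff.1 c.2).symm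
  have hQp : IsPGroup 2 Q := IsPGroup.of_card (n := 5) (by rw [hcard]; rfl)
  haveI : IsSimpleGroup ((Subgroup.centralizer ({z} : Set G)) ⧸ Q) := by
    haveI : IsSimpleGroup (alternatingGroup (Fin 5)) := alternatingGroup.isSimpleGroup_five
    haveI : Nontrivial ((Subgroup.centralizer ({z} : Set G)) ⧸ Q) := e.toEquiv.nontrivial
    exact IsSimpleGroup.isSimpleGroup_of_surjective e.symm.toMonoidHom e.symm.surjective
  have hA : ∀ a : alternatingGroup (Fin 5), (∀ b, b * a = a * b) → a = 1 := by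
    intro a hab
    by_contra hne
    haveI : IsSimpleGroup (alternatingGroup (Fin 5)) := alternatingGroup.isSimpleGroup_five
    rcases Subgroup.Normal.eq_bot_or_eq_top
      (H := Subgroup.center (alternatingGroup (Fin 5))) inferInstance with h | h
    · exact hne (Subgroup.mem_bot.1 (h ▸ Subgroup.mem_center_iff.2 hab))
    · have := Subgroup.mem_center_iff.1 (h ▸ Subgroup.mem_top A5.a0 :
        A5.a0 ∈ Subgroup.center (alternatingGroup (Fin 5))) A5.b0
      have h5 := A5.prod_five.1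
      have h2 : (A5.a0 * A5.b0) ^ 2 = 1 := by
        rw [(Commute.symm this).mul_pow, pow_two, pow_two, A5.a0_sq, A5.b0_conj.1, mul_one]
      have : A5.a0 * A5.b0 = 1 := by
        have e5 : (A5.a0 * A5.b0) ^ 5 = ((A5.a0 * A5.b0) ^ 2) ^ 2 * (A5.a0 * A5.b0) := by
          rw [← pow_mul, ← pow_succ]
        rw [h5, h2, one_pow, one_mul] at e5
        exact e5.symm
      exact A5.prod_five.2 this
  have hzQ : zc ∈ Q := by
    rw [← QuotientGroup.eq_one_iff, ← MulEquiv.map_eq_one_iff e]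
    refine hA _ fun b => ?_
    obtain ⟨x, rfl⟩ := e.surjective b
    obtain ⟨y, rfl⟩ := QuotientGroup.mk_surjective x
    rw [← map_mul, ← map_mul, ← QuotientGroup.mk_mul, ← QuotientGroup.mk_mul, hzcc]
  have hzp : (Subgroup.center Q).map Q.subtype = Subgroup.zpowers zc := by
    symm
    refine Subgroup.eq_of_le_of_card_ge (Subgroup.zpowers_le.2 ⟨⟨zc, hzQ⟩,
      Subgroup.mem_center_iff.2 fun y => Subtype.ext (hzcc y).symm, rfl⟩) ?_
    rw [Subgroup.card_map_of_injective Q.subtype_injective, hQ.2, Nat.card_zpowers,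
      ← Subgroup.orderOf_coe, hz]
  have hcom : ∀ q0 ∈ Q, ∀ q ∈ Q, q0 * q * q0⁻¹ * q⁻¹ ∈ Subgroup.zpowers zc := by
    intro q0 h0 q hq
    rw [← hzp]
    refine ⟨⟨q0, h0⟩ * ⟨q, hq⟩ * ⟨q0, h0⟩⁻¹ * ⟨q, hq⟩⁻¹, ?_, rfl⟩
    rw [← hQ.1.2.2]
    exact Subgroup.commutator_mem_commutator (Subgroup.mem_top _) (Subgroup.mem_top _)
  have hcen : ∀ x : (Subgroup.centralizer ({z} : Set G)), (∀ q ∈ Q, q * x = x * q) → x ∈ Q := by
    let N : Subgroup ((Subgroup.centralizer ({z} : Set G)) ⧸ Q) := (Subgroup.centralizer (Q : Set (Subgroup.centralizer ({z} : Set G)))).map (QuotientGroup.mk' Q)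
    haveI : N.Normal := by
      haveI : (Subgroup.centralizer (Q : Set (Subgroup.centralizer ({z} : Set G)))).Normal := inferInstance
      exact Subgroup.Normal.map inferInstance _ (QuotientGroup.mk'_surjective Q)
    rcases Subgroup.Normal.eq_bot_or_eq_top (H := N) inferInstance with hN | hN
    · intro x hx
      rw [← QuotientGroup.eq_one_iff]
      exact Subgroup.mem_bot.1 (hN ▸ (⟨x, Subgroup.mem_centralizer_iff.2 hx, rfl⟩ : (x : (Subgroup.centralizer ({z} : Set G)) ⧸ Q) ∈ N))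
    · exfalso
      obtain ⟨c, q, hq, hm⟩ := hmove
      obtain ⟨n, hn, hnc⟩ := (hN ▸ Subgroup.mem_top (c : (Subgroup.centralizer ({z} : Set G)) ⧸ Q) : (c : (Subgroup.centralizer ({z} : Set G)) ⧸ Q) ∈ N)
      have h0 : c * n⁻¹ ∈ Q := by
        rw [← QuotientGroup.eq_one_iff, QuotientGroup.mk_mul, QuotientGroup.mk_inv,
          show (n : (Subgroup.centralizer ({z} : Set G)) ⧸ Q) = c from hnc, mul_inv_cancel]
      have h1 := hcom _ h0 q hq
      have h2 : c * q * c⁻¹ * q⁻¹ = (c * n⁻¹) * q * (c * n⁻¹)⁻¹ * q⁻¹ := by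
        have := Subgroup.mem_centralizer_iff.1 hn q hq
        calc c * q * c⁻¹ * q⁻¹ = (c * n⁻¹) * (n * q) * c⁻¹ * q⁻¹ := by group
          _ = (c * n⁻¹) * (q * n) * c⁻¹ * q⁻¹ := by rw [this]
          _ = _ := by group
      rw [← h2] at h1
      obtain ⟨k, hk⟩ := Subgroup.mem_zpowers_iff.1 h1
      exact hm (Subgroup.mem_zpowers_iff.2 ⟨k, by simpa [zc] using congrArg Subtype.val hk⟩)
  have hmem : ∀ h : (Subgroup.centralizer ({z} : Set G)), (h : G) ∈ Q.map (Subgroup.centralizer ({z} : Set G)).subtype ↔ h ∈ Q := fun h =>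
    Subgroup.mem_map_iff_mem (Subgroup.centralizer ({z} : Set G)).subtype_injective
  refine ⟨⟨LargeExtraspecial.isExtraspecial_equiv (Q.equivMapOfInjective _ (Subgroup.centralizer ({z} : Set G)).subtype_injective) hQ,
      ?_, ?_, ?_⟩, ?_, ⟨e.toMonoidHom.comp (QuotientGroup.mk' Q),
        e.surjective.comp (QuotientGroup.mk'_surjective Q), fun h => ?_⟩, ?_⟩
  · apply le_antisymm
    · rintro _ ⟨⟨_, x, hx, rfl⟩, hxc, rfl⟩
      have hx' : x ∈ Subgroup.zpowers zc := by
        rw [← hzp]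
        refine ⟨⟨x, hx⟩, Subgroup.mem_center_iff.2 fun y => Subtype.ext (Subtype.ext ?_), rfl⟩
        have h2 := congrArg Subtype.val (Subgroup.mem_center_iff.1 hxc ⟨_, y.1, y.2, rfl⟩)
        simpa using h2
      obtain ⟨k, hk⟩ := Subgroup.mem_zpowers_iff.1 hx'
      exact Subgroup.mem_zpowers_iff.2 ⟨k, by simpa [zc] using congrArg Subtype.val hk⟩
    · rw [Subgroup.zpowers_le]
      refine ⟨⟨z, zc, hzQ, rfl⟩, Subgroup.mem_center_iff.2 ?_, rfl⟩
      rintro ⟨_, y, -, rfl⟩
      have h2 := congrArg Subtype.val (hzcc y).symm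
      exact Subtype.ext (by simpa [zc] using h2)
  · apply le_antisymm
    · intro x hx
      rw [Subgroup.mem_centralizer_iff] at hx
      have hxC : x ∈ (Subgroup.centralizer ({z} : Set G)) := Subgroup.mem_centralizer_singleton_iff.2 (hx z ⟨zc, hzQ, rfl⟩).symm
      have hxQ := hcen ⟨x, hxC⟩ fun q hq => Subtype.ext (hx q ⟨q, hq, rfl⟩)
      have hx' : (⟨x, hxC⟩ : (Subgroup.centralizer ({z} : Set G))) ∈ Subgroup.zpowers zc := by
        rw [← hzp]
        exact ⟨⟨_, hxQ⟩, Subgroup.mem_center_iff.2 fun y =>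
          Subtype.ext (Subtype.ext (hx y.1 ⟨y.1, y.2, rfl⟩)), rfl⟩
      obtain ⟨k, hk⟩ := Subgroup.mem_zpowers_iff.1 hx'
      exact Subgroup.mem_zpowers_iff.2 ⟨k, by simpa [zc] using congrArg Subtype.val hk⟩
    · rw [Subgroup.zpowers_le, Subgroup.mem_centralizer_iff]
      rintro _ ⟨y, -, rfl⟩
      exact (congrArg Subtype.val (hzcc y)).symm
  · intro x hx
    rw [Subgroup.mem_normalizer_iff]
    have key : ∀ c : (Subgroup.centralizer ({z} : Set G)), ∀ q : G, q ∈ Q.map (Subgroup.centralizer ({z} : Set G)).subtype → (c : G) * q * (c : G)⁻¹ ∈ Q.map (Subgroup.centralizer ({z} : Set G)).subtype := by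
      rintro c _ ⟨q, hq, rfl⟩
      exact ⟨c * q * c⁻¹, Subgroup.Normal.conj_mem inferInstance q hq c, rfl⟩
    refine fun q => ⟨key ⟨x, hx⟩ q, fun hq => ?_⟩
    have := key ⟨x, hx⟩⁻¹ _ hq
    simpa [mul_assoc] using this
  · rw [Subgroup.card_map_of_injective (Subgroup.centralizer ({z} : Set G)).subtype_injective, hcard]
  · rw [hmem, MonoidHom.comp_apply, MulEquiv.coe_toMonoidHom, MulEquiv.map_eq_one_iff,
      QuotientGroup.mk'_apply, QuotientGroup.eq_one_iff]
  · obtain ⟨u, hu, hne, hc⟩ := hnwc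
    exact ⟨u, (hmem u).2 hu, hne, hc⟩

end Cfsg.Agent.J2Fusion14
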