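import Cfsg.Agent.J2Fusion14.Abstract
import Mathlib.GroupTheory.FixedPointFree

/-!
A group of Hall–Janko type is simple: it has no nontrivial normal subgroup of odd order, and a
normal subgroup of even order contains a Sylow 2-subgroup, hence the centralizer, hence everything.
-/

set_option autoImplicit false

namespace Cfsg.Agent.J2Fusion14

open Cfsg Cfsg.Agent.J2Order38

variable {G : Type*} [Group G] [Finite G] {z : G} {Q : Subgroup G}

/-- A conjugate of `z` inverts every normal subgroup of odd order. -/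
theorem inverts_odd (h : HJ z Q) (N : Subgroup G) [N.Normal] (hodd : Odd (Nat.card N)) :
    ∀ x ∈ N, z * x * z⁻¹ = x⁻¹ := by
  obtain ⟨π, hπs, hπ⟩ := h.quot
  -- fixed points are trivial
  have hfix : ∀ x ∈ N, Commute z x → x = 1 := by
    intro x hx hc
    let M : Subgroup (Subgroup.centralizer ({z} : Set G)) := N.subgroupOf _
    have hMcard : Odd (Nat.card M) := by
      have hd : Nat.card M ∣ Nat.card N :=
        Subgroup.card_comap_dvd_of_injective N _ Subtype.val_injective
      exact hodd.of_dvd_nat hd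
    let xc : Subgroup.centralizer ({z} : Set G) :=
      ⟨x, Subgroup.mem_centralizer_singleton_iff.2 hc.eq.symm⟩
    have hxM : xc ∈ M := hx
    have hπx : π xc = 1 := by
      haveI : IsSimpleGroup (alternatingGroup (Fin 5)) := alternatingGroup.isSimpleGroup_five
      have hn : (M.map π).Normal := (inferInstance : M.Normal).map π hπs
      rcases hn.eq_bot_or_eq_top with hb | hb
      · exact Subgroup.mem_bot.1 (hb ▸ Subgroup.mem_map_of_mem π hxM)
      · exfalso
        have hd : Nat.card (M.map π) ∣ Nat.card M := Subgroup.card_map_dvd _ _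
        rw [hb, Subgroup.card_top, A5.card_eq] at hd
        exact absurd ((Dvd.intro 30 rfl).trans hd)
          (fun h2 => Nat.not_even_iff_odd.2 hMcard (even_iff_two_dvd.2 h2))
    have hxQ : x ∈ Q := (hπ xc).1 hπx
    have hd2 : orderOf x ∣ Nat.gcd (Nat.card N) 32 := by
      refine Nat.dvd_gcd ?_ ?_
      · exact Subgroup.orderOf_dvd_natCard _ hx
      · rw [← h.card]; exact Subgroup.orderOf_dvd_natCard _ hxQ
    have hg : Nat.gcd (Nat.card N) 32 = 1 := by
      have : Nat.Coprime (Nat.card N) (2 ^ 5) := Nat.Coprime.pow_right 5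
        (Nat.coprime_two_right.2 hodd)
      exact this
    rw [hg, Nat.dvd_one] at hd2
    exact orderOf_eq_one_iff.1 hd2
  let φ : N →* N := MonoidHom.mk'
    (fun x => ⟨z * x * z⁻¹, (inferInstance : N.Normal).conj_mem x x.2 z⟩)
    (fun a b => Subtype.ext (by simp [mul_assoc]))
  have hφ : MonoidHom.FixedPointFree φ := by
    intro x hx
    have h1 : z * (x : G) * z⁻¹ = x := congrArg Subtype.val hx
    exact Subtype.ext (hfix x x.2 (mul_inv_eq_iff_eq_mul.1 h1))
  have h2 : Function.Involutive φ := fun x => Subtype.ext (by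
    show z * (z * (x : G) * z⁻¹) * z⁻¹ = x
    rw [show z * (z * (x : G) * z⁻¹) * z⁻¹ = (z * z) * x * (z * z)⁻¹ by group, h.z_sq]
    group)
  intro x hx
  exact congrArg Subtype.val (congrFun (MonoidHom.FixedPointFree.coe_eq_inv_of_involutive hφ h2) ⟨x, hx⟩)

theorem inverts_odd_conj (h : HJ z Q) (N : Subgroup G) [N.Normal] (hodd : Odd (Nat.card N))
    {v : G} (hv : IsConj z v) : ∀ x ∈ N, v * x * v⁻¹ = x⁻¹ := by
  obtain ⟨g, rfl⟩ := isConj_iff.1 hv
  exact inverts_odd (h.conj g) N hodd

/-- A group of Hall–Janko type is simple. -/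
theorem isSimpleGroup (h : HJ z Q) : IsSimpleGroup G := by
  haveI : Fact (Nat.Prime 2) := ⟨Nat.prime_two⟩
  haveI : Nontrivial G := ⟨⟨z, 1, h.z_ne⟩⟩
  refine ⟨fun N hN => ?_⟩
  rcases Nat.even_or_odd (Nat.card N) with hev | hodd
  · right
    obtain ⟨P, hP⟩ := h.two_group.exists_le_sylow
    have hSC := le_centralizer_z h P hP
    -- `N` contains the Sylow subgroup
    have hPN : (P : Subgroup G) ≤ N := by
      have hT : ((P : Subgroup G) ⊓ N) ≠ ⊥ := by
        obtain ⟨⟨x, hx⟩, hx2⟩ := exists_prime_orderOf_dvd_card' (G := N) 2 (even_iff_two_dvd.1 hev)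
        rw [← Subgroup.orderOf_coe] at hx2
        obtain ⟨R, hR⟩ := (IsPGroup.of_card (n := 1) (p := 2) (G := Subgroup.zpowers x)
          (by rw [Nat.card_zpowers]; exact hx2)).exists_le_sylow
        obtain ⟨c, hc⟩ := MulAction.exists_smul_eq G R P
        intro hb
        have hm : c * x * c⁻¹ ∈ (P : Subgroup G) ⊓ N := ⟨by
          rw [← hc, Sylow.coe_subgroup_smul]
          exact Subgroup.smul_mem_pointwise_smul _ (MulAut.conj c) _ (hR (Subgroup.mem_zpowers _)),
          hN.conj_mem x hx c⟩
        rw [hb, Subgroup.mem_bot, conj_eq_one_iff] at hm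
        have hx2' : orderOf x = 2 := hx2
        rw [hm, orderOf_one] at hx2'
        omega
      have := noClosed h P hP ((P : Subgroup G) ⊓ N) inf_le_left hT
        fun x hx a ha => ⟨ha, hN.conj_mem x hx.2 a⟩
      exact this.ge.trans inf_le_right
    -- `N` contains the centralizer
    obtain ⟨π, hπs, hπ⟩ := h.quot
    have hCN : Subgroup.centralizer ({z} : Set G) ≤ N := by
      let M : Subgroup (Subgroup.centralizer ({z} : Set G)) := N.subgroupOf _
      haveI : IsSimpleGroup (alternatingGroup (Fin 5)) := alternatingGroup.isSimpleGroup_five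
      have hn : (M.map π).Normal := (inferInstance : M.Normal).map π hπs
      rcases hn.eq_bot_or_eq_top with hb | hb
      · exfalso
        have hPQ : (P : Subgroup G) ≤ Q := fun x hx =>
          (hπ ⟨x, hSC hx⟩).1 (Subgroup.mem_bot.1 (hb ▸ Subgroup.mem_map_of_mem π
            (show (⟨x, hSC hx⟩ : Subgroup.centralizer ({z} : Set G)) ∈ M from hPN hx)))
        have h1 := P.card_eq_multiplicity
        rw [le_antisymm hPQ hP, h.card] at h1
        have h2 : 1920 ∣ Nat.card G := h.card_H ▸ Subgroup.card_subgroup_dvd_card _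
        have h3 : 2 ^ 6 ∣ Nat.card G := (Dvd.intro 30 rfl).trans h2
        have h4 := (Nat.Prime.pow_dvd_iff_le_factorization Nat.prime_two
          Nat.card_pos.ne').1 h3
        have : (2 : ℕ) ^ 6 ≤ 2 ^ (Nat.card G).factorization 2 := Nat.pow_le_pow_right (by norm_num) h4
        rw [← h1] at this
        norm_num at this
      · intro x hx
        obtain ⟨y, hy, he⟩ := Subgroup.mem_map.1
          (hb.symm ▸ Subgroup.mem_top (π ⟨x, hx⟩) : π ⟨x, hx⟩ ∈ M.map π)
        have hq : ((y⁻¹ * ⟨x, hx⟩ : Subgroup.centralizer ({z} : Set G)) : G) ∈ Q :=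
          (hπ _).1 (by rw [map_mul, map_inv, he, inv_mul_cancel])
        have := N.mul_mem (show (y : G) ∈ N from hy) (hPN (hP hq))
        simpa using this
    -- Frattini
    haveI := hN
    have hFr := Sylow.normalizer_sup_eq_top (P.subtype hPN)
    rw [Sylow.coe_subtype, Subgroup.map_subgroupOf_eq_of_le hPN] at hFr
    rw [eq_top_iff, ← hFr, sup_le_iff]
    refine ⟨fun n hn => hCN ?_, le_rfl⟩
    rw [Subgroup.mem_centralizer_singleton_iff]
    have hz : n * z * n⁻¹ = z := by
      refine central_eq h hP (fun s hs => ?_) (fun e => h.z_ne (conj_eq_one_iff.mp e))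
      have hs' : n⁻¹ * s * n ∈ (P : Subgroup G) := (Subgroup.mem_normalizer_iff''.mp hn s).1 hs
      have := (Subgroup.mem_centralizer_singleton_iff.1 (hSC hs'))
      calc s * (n * z * n⁻¹) = n * ((n⁻¹ * s * n) * z) * n⁻¹ := by group
        _ = n * (z * (n⁻¹ * s * n)) * n⁻¹ := by rw [this]
        _ = _ := by group
    exact mul_inv_eq_iff_eq_mul.mp hz
  · left
    rw [eq_bot_iff]
    intro x hx
    obtain ⟨u, huQ, hune, huc⟩ := h.nwc
    have hu := h.mem_invs_of_conj huQ hune huc
    have hzu : IsConj z (z * u) := h.isConj_invs ⟨mul_mem h.z_mem huQ, by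
        rw [show z * u * (z * u) = z * (u * z) * u by group, ← (h.z_comm huQ).eq]
        rw [show z * (z * u) * u = (z * z) * (u * u) by group, h.z_sq, hu.2.1, one_mul],
      fun e => hune (by rw [← h.z_inv, eq_inv_of_mul_eq_one_right e]),
      fun e => hu.2.2.1 (mul_eq_left.1 e)⟩
    have h1 := inverts_odd h N hodd x hx
    have h2 := inverts_odd_conj h N hodd huc x hx
    have h3 := inverts_odd_conj h N hodd hzu x hx
    have h4 : z * u * x * (z * u)⁻¹ = x := by
      rw [show z * u * x * (z * u)⁻¹ = z * (u * x * u⁻¹) * z⁻¹ by group, h2,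
        show z * x⁻¹ * z⁻¹ = (z * x * z⁻¹)⁻¹ by group, h1, inv_inv]
    rw [h4] at h3
    have hxx : x ^ 2 = 1 := by rw [pow_two]; nth_rewrite 2 [h3]; group
    have hdvd : orderOf x ∣ Nat.gcd 2 (Nat.card N) :=
      Nat.dvd_gcd (orderOf_dvd_of_pow_eq_one hxx) (Subgroup.orderOf_dvd_natCard _ hx)
    rw [Nat.coprime_two_left.2 hodd, Nat.dvd_one, orderOf_eq_one_iff] at hdvd
    exact Subgroup.mem_bot.2 hdvd

end Cfsg.Agent.J2Fusion14
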